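/-
Orbits of Sylow 2-subgroups of symmetric groups, through their pairs.
-/
import Cfsg.Agent.Lib.SymSylow
import Mathlib

set_option autoImplicit false
set_option linter.unusedSectionVars false

universe u

namespace CfsgLib.AltSylowDecomp

open Equiv CfsgLib.SymSylow

variable {α : Type u} [Fintype α] [DecidableEq α]

/-- A Sylow 2-subgroup commutes with its pairing. -/
theorem le_pairStab (T : Sylow 2 (Perm α)) {p : Perm α} (hp : IsPairing p)
    (hmem : ∀ a, swap a (p a) ∈ (T : Subgroup (Perm α))) : (T : Subgroup (Perm α)) ≤ pairStab p :=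
  fun _x hx a => comm_of_normalizes T.2 hp hmem (fun _y hy => mul_mem (mul_mem hx hy) (inv_mem hx)) a

theorem comm_apply {T : Sylow 2 (Perm α)} {p : Perm α} (hp : IsPairing p)
    (hmem : ∀ a, swap a (p a) ∈ (T : Subgroup (Perm α))) {x : Perm α} (hx : x ∈ (T : Subgroup (Perm α))) (a : α) :
    p (x a) = x (p a) := le_pairStab T hp hmem hx a

/-- The pair of a moved point. -/
def pr (p : Perm α) (a : α) (ha : p a ≠ a) : Pairs p := ⟨s(a, p a), a, ha, rfl⟩

theorem pr_eq {p : Perm α} (hp : IsPairing p) {a b : α} {ha : p a ≠ a} {hb : p b ≠ b} :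
    pr p a ha = pr p b hb ↔ b = a ∨ b = p a := by
  rw [pr, pr, Subtype.mk.injEq, Sym2.eq_iff]
  constructor
  · rintro (⟨h, -⟩ | ⟨h, h'⟩)
    · exact Or.inl h.symm
    · exact Or.inr h'.symm
  · rintro (rfl | rfl)
    · exact Or.inl ⟨rfl, rfl⟩
    · exact Or.inr ⟨(hp.invol a).symm, rfl⟩

theorem pr_surj {p : Perm α} (s : Pairs p) : ∃ a ha, pr p a ha = s := by
  obtain ⟨a, ha, e⟩ := s.2
  exact ⟨a, ha, Subtype.ext e⟩

theorem pairHom_pr {p : Perm α} (x : pairStab p) (a : α) (ha : p a ≠ a) :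
    pairHom p x (pr p a ha) = pr p (x.1 a) (by rw [x.2 a]; exact x.1.injective.ne ha) := by
  apply Subtype.ext
  show Sym2.map x.1 s(a, p a) = s(x.1 a, p (x.1 a))
  rw [Sym2.map_mk, x.2 a]

theorem card_pairs {p : Perm α} (hp : IsPairing p) :
    2 * Fintype.card (Pairs p) + (Finset.univ.filter fun a => p a = a).card = Fintype.card α := by
  classical
  have h1 := Finset.card_filter_add_card_filter_not (s := (Finset.univ : Finset α)) (fun a => p a = a)
  have h2 : (Finset.univ.filter fun a => ¬ p a = a).card = 2 * Fintype.card (Pairs p) := by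
    let M := {a : α // ¬ p a = a}
    have e : Fintype.card M = (Finset.univ.filter fun a => ¬ p a = a).card := Fintype.card_subtype _
    rw [← e, ← Finset.card_univ, Finset.card_eq_sum_card_fiberwise
      (f := fun a : M => pr p a.1 a.2) (t := Finset.univ) (fun _ _ => Finset.mem_univ _),
      Finset.sum_const_nat (m := 2) (fun s _ => ?_), Finset.card_univ, mul_comm]
    obtain ⟨a, ha, rfl⟩ := pr_surj s
    have hpa : ¬ p (p a) = p a := fun h => ha (by rw [hp.invol] at h; exact h.symm)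
    rw [show (Finset.univ.filter fun b : M => pr p b.1 b.2 = pr p a ha) = {⟨a, ha⟩, ⟨p a, hpa⟩} by
      ext b
      simp only [Finset.mem_filter, Finset.mem_univ, true_and, Finset.mem_insert, Finset.mem_singleton]
      rw [eq_comm, pr_eq hp]
      exact ⟨fun h => h.imp (fun h => Subtype.ext h) (fun h => Subtype.ext h),
        fun h => h.imp (congrArg Subtype.val) (congrArg Subtype.val)⟩]
    exact Finset.card_pair fun h => ha (congrArg Subtype.val h).symm
  rw [Finset.card_univ] at h1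
  omega

theorem fix_le_one {p : Perm α} (hp : IsPairing p) : (Finset.univ.filter fun a => p a = a).card ≤ 1 :=
  Finset.card_le_one.mpr fun a ha b hb => hp.fixed a b (Finset.mem_filter.mp ha).2 (Finset.mem_filter.mp hb).2

theorem card_pairs_eq {p : Perm α} (hp : IsPairing p) : Fintype.card (Pairs p) = Fintype.card α / 2 := by
  have := card_pairs hp
  have := fix_le_one hp
  omega

/-- A point whose pair is fixed. -/
def Small (T : Subgroup (Perm α)) (p : Perm α) (a : α) : Prop := ∀ x ∈ T, x a = a ∨ x a = p a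

variable (T : Sylow 2 (Perm α)) {p : Perm α} (hp : IsPairing p)
  (hmem : ∀ a, swap a (p a) ∈ (T : Subgroup (Perm α)))

/-- The Sylow subgroup on pairs. -/
noncomputable def quot : Sylow 2 (Perm (Pairs p)) :=
  (T.subtype (le_pairStab T hp hmem)).mapSurjective (pairHom_surjective hp)

theorem mem_quot {y : Perm (Pairs p)} :
    y ∈ (quot T hp hmem).toSubgroup ↔ ∃ x : pairStab p, x.1 ∈ (T : Subgroup (Perm α)) ∧
      pairHom p x = y := Iff.rfl

theorem small_iff_fixed {a : α} (ha : p a ≠ a) :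
    Small (T : Subgroup (Perm α)) p a ↔
      ∀ y ∈ (quot T hp hmem).toSubgroup, y (pr p a ha) = pr p a ha := by
  constructor
  · rintro hs y hy
    obtain ⟨x, hx, rfl⟩ := (mem_quot T hp hmem).mp hy
    rw [pairHom_pr, eq_comm, pr_eq hp]
    exact hs x.1 hx
  · intro h x hx
    have := h _ ((mem_quot T hp hmem).mpr ⟨⟨x, le_pairStab T hp hmem hx⟩, hx, rfl⟩)
    rw [pairHom_pr, eq_comm, pr_eq hp] at this
    exact this

include hp hmem in
theorem fixed_eq_of_fixed {a b : α} (ha : ∀ x ∈ (T : Subgroup (Perm α)), x a = a)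
    (hb : ∀ x ∈ (T : Subgroup (Perm α)), x b = b) : a = b := by
  have h : ∀ c, (∀ x ∈ (T : Subgroup (Perm α)), x c = c) → p c = c := fun c hc => by
    simpa using hc _ (hmem c)
  exact hp.fixed a b (h a ha) (h b hb)

theorem fixedPoints_card :
    Nat.card (MulAction.fixedPoints (T : Subgroup (Perm α)) α) = Fintype.card α % 2 := by
  obtain ⟨p, hp, hmem⟩ := exists_pairing_mem T
  have h1 : Nat.card (MulAction.fixedPoints (T : Subgroup (Perm α)) α) ≤ 1 := by
    rw [Finite.card_le_one_iff_subsingleton]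
    exact ⟨fun a b => Subtype.ext (fixed_eq_of_fixed T hp hmem (fun x hx => a.2 ⟨x, hx⟩) fun x hx => b.2 ⟨x, hx⟩)⟩
  haveI : Fact (Nat.Prime 2) := ⟨Nat.prime_two⟩
  have h2 := T.2.card_modEq_card_fixedPoints α
  rw [Nat.card_eq_fintype_card] at h2
  unfold Nat.ModEq at h2
  omega

include hp hmem in
theorem small_unique {a b : α} (ha : p a ≠ a) (hb : p b ≠ b) (hsa : Small (T : Subgroup (Perm α)) p a)
    (hsb : Small (T : Subgroup (Perm α)) p b) : b = a ∨ b = p a := by
  obtain ⟨p', hp', hmem'⟩ := exists_pairing_mem (quot T hp hmem)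
  rw [← pr_eq hp (ha := ha) (hb := hb)]
  exact fixed_eq_of_fixed _ hp' hmem' ((small_iff_fixed T hp hmem ha).mp hsa) ((small_iff_fixed T hp hmem hb).mp hsb)

include hp hmem in
theorem small_exists_iff :
    (∃ a, p a ≠ a ∧ Small (T : Subgroup (Perm α)) p a) ↔ Odd (Fintype.card (Pairs p)) := by
  have hc := fixedPoints_card (quot T hp hmem)
  rw [Nat.odd_iff, ← hc]
  constructor
  · rintro ⟨a, ha, hs⟩
    refine le_antisymm (by rw [hc]; omega) ?_
    haveI : Nonempty (MulAction.fixedPoints (quot T hp hmem).toSubgroup (Pairs p)) :=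
      ⟨⟨pr p a ha, fun y => (small_iff_fixed T hp hmem ha).mp hs y.1 y.2⟩⟩
    exact Nat.card_pos
  · intro h
    obtain ⟨⟨s, hs⟩⟩ : Nonempty (MulAction.fixedPoints (quot T hp hmem).toSubgroup (Pairs p)) :=
      (Nat.card_pos_iff.mp (by omega)).1
    obtain ⟨a, ha, rfl⟩ := pr_surj s
    exact ⟨a, ha, (small_iff_fixed T hp hmem ha).mpr fun y hy => hs ⟨y, hy⟩⟩

include hp hmem in
theorem small_image {x : Perm α} (hx : x ∈ (T : Subgroup (Perm α))) {a : α}
    (hs : Small (T : Subgroup (Perm α)) p a) : Small (T : Subgroup (Perm α)) p (x a) := fun y hy => by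
  rcases hs (x⁻¹ * y * x) (mul_mem (mul_mem (inv_mem hx) hy) hx) with h | h
  · left
    rwa [Perm.mul_apply, Perm.mul_apply, Perm.inv_eq_iff_eq] at h
  · right
    rw [Perm.mul_apply, Perm.mul_apply, Perm.inv_eq_iff_eq] at h
    rw [h, comm_apply hp hmem hx]

include hp hmem in
theorem small_image_iff {x : Perm α} (hx : x ∈ (T : Subgroup (Perm α))) {a : α} :
    Small (T : Subgroup (Perm α)) p (x a) ↔ Small (T : Subgroup (Perm α)) p a :=
  ⟨fun h => by simpa using small_image T hp hmem (inv_mem hx) h, small_image T hp hmem hx⟩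

include hp hmem in
theorem transitive_step (htr : ∀ a b : Pairs p,
      (∃ y ∈ (quot T hp hmem).toSubgroup, y a ≠ a) →
      (∃ y ∈ (quot T hp hmem).toSubgroup, y b ≠ b) →
      ∃ y ∈ (quot T hp hmem).toSubgroup, y a = b)
    {a b : α} (ha : p a ≠ a) (hb : p b ≠ b) (hsa : ¬ Small (T : Subgroup (Perm α)) p a)
    (hsb : ¬ Small (T : Subgroup (Perm α)) p b) : ∃ w ∈ (T : Subgroup (Perm α)), w a = b := by
  rw [small_iff_fixed T hp hmem ha] at hsa
  rw [small_iff_fixed T hp hmem hb] at hsb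
  push Not at hsa hsb
  obtain ⟨y, hy, e⟩ := htr _ _ hsa hsb
  obtain ⟨x, hx, rfl⟩ := (mem_quot T hp hmem).mp hy
  rw [pairHom_pr, pr_eq hp] at e
  rcases e with e | e
  · exact ⟨x.1, hx, e.symm⟩
  · exact ⟨swap (x.1 a) (p (x.1 a)) * x.1, mul_mem (hmem _) hx, by rw [Perm.mul_apply, swap_apply_left, e]⟩

/-- In degree `2^r` or `2^r + 1` the moved points form one orbit. -/
theorem transitive_of_card : ∀ (m : ℕ) {α : Type u} [Fintype α] [DecidableEq α], Fintype.card α = m →
    ∀ r : ℕ, (m = 2 ^ r ∨ m = 2 ^ r + 1) → ∀ (T : Sylow 2 (Perm α)) (a b : α),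
      (∃ x ∈ (T : Subgroup (Perm α)), x a ≠ a) → (∃ x ∈ (T : Subgroup (Perm α)), x b ≠ b) →
      ∃ w ∈ (T : Subgroup (Perm α)), w a = b := by
  intro m
  induction m using Nat.strong_induction_on with
  | _ m ih =>
    intro α _ _ hm r hr T a b hTa hTb
    haveI : Nonempty α := ⟨a⟩
    obtain ⟨p, hp, hmem⟩ := exists_pairing_mem T
    have hmv : ∀ c, (∃ x ∈ (T : Subgroup (Perm α)), x c ≠ c) → p c ≠ c := by
      rintro c ⟨x, hx, hxc⟩ hc
      exact hxc (hp.fixed _ _ (by rw [comm_apply hp hmem hx, hc]) hc)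
    have ha := hmv a hTa
    have hb := hmv b hTb
    have hP := card_pairs_eq hp
    rw [hm] at hP
    have hlt := card_pairs_lt hp
    rcases Nat.lt_or_ge r 2 with hr2 | hr2
    · have : Fintype.card (Pairs p) ≤ 1 := by
        rcases (by omega : r = 0 ∨ r = 1) with rfl | rfl <;> simp at hr <;> omega
      rcases (pr_eq hp (ha := ha) (hb := hb)).mp ((Fintype.card_le_one_iff.mp this) _ _) with e | e
      · exact ⟨1, one_mem _, e.symm⟩
      · exact ⟨_, hmem a, by rw [swap_apply_left, e]⟩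
    · obtain ⟨s, rfl⟩ : ∃ s, r = s + 2 := ⟨r - 2, by omega⟩
      have h4 : 2 ^ (s + 2) = 2 * 2 ^ (s + 1) := by ring
      have h2 : 2 ^ (s + 1) = 2 * 2 ^ s := by ring
      have hPr : Fintype.card (Pairs p) = 2 ^ (s + 1) := by omega
      have hns : ∀ c, p c ≠ c → ¬ Small (T : Subgroup (Perm α)) p c := fun c hc hs => by
        have := (small_exists_iff T hp hmem).mp ⟨c, hc, hs⟩
        rw [hPr, h2, Nat.odd_iff] at this
        omega
      exact transitive_step T hp hmem
        (fun x y => ih _ (hm ▸ hlt) rfl (s + 1) (Or.inl hPr) (quot T hp hmem) x y) ha hb (hns a ha) (hns b hb)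

include hp hmem in
/-- When the big part has a power of two points it is one orbit. -/
theorem big_transitive {r : ℕ} (hr : 4 * (Fintype.card α / 4) = 2 ^ r) {a b : α} (ha : p a ≠ a) (hb : p b ≠ b)
    (hsa : ¬ Small (T : Subgroup (Perm α)) p a) (hsb : ¬ Small (T : Subgroup (Perm α)) p b) :
    ∃ w ∈ (T : Subgroup (Perm α)), w a = b := by
  refine transitive_step T hp hmem (fun x y => transitive_of_card _ rfl (r - 1) ?_ _ x y) ha hb hsa hsb
  rw [card_pairs_eq hp]
  rcases r with _ | r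
  · simp at hr <;> omega
  · rw [pow_succ] at hr
    simp only [Nat.add_sub_cancel]
    omega

include hp hmem in
/-- If the big part is one orbit it has a power of two points. -/
theorem big_card_of_transitive {a : α} (ha : p a ≠ a) (hsa : ¬ Small (T : Subgroup (Perm α)) p a)
    (htr : ∀ b, p b ≠ b → ¬ Small (T : Subgroup (Perm α)) p b → ∃ w ∈ (T : Subgroup (Perm α)), w a = b) :
    ∃ r, 4 * (Fintype.card α / 4) = 2 ^ r := by
  classical
  haveI : Fact (Nat.Prime 2) := ⟨Nat.prime_two⟩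
  obtain ⟨r, hr⟩ := T.2.card_orbit a
  refine ⟨r, ?_⟩
  rw [← hr]
  have e : MulAction.orbit (T : Subgroup (Perm α)) a =
      ((Finset.univ.filter fun b => p b ≠ b ∧ ¬ Small (T : Subgroup (Perm α)) p b : Finset α) : Set α) := by
    ext b
    simp only [Finset.coe_filter, Finset.mem_univ, true_and, Set.mem_setOf_eq]
    constructor
    · rintro ⟨w, rfl⟩
      refine ⟨?_, fun h => hsa ((small_image_iff T hp hmem w.2).mp h)⟩
      show p (w.1 a) ≠ w.1 a
      rw [comm_apply hp hmem w.2]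
      exact w.1.injective.ne ha
    · rintro ⟨hb, hsb⟩
      obtain ⟨w, hw, rfl⟩ := htr b hb hsb
      exact ⟨⟨w, hw⟩, rfl⟩
  rw [Nat.card_coe_set_eq, e, Set.ncard_coe_finset]
  have hsum := card_pairs hp
  have hf := fix_le_one hp
  have hpc := card_pairs_eq hp
  have h1 := Finset.card_filter_add_card_filter_not (s := (Finset.univ.filter fun b => p b ≠ b))
    (fun b => Small (T : Subgroup (Perm α)) p b)
  rw [Finset.filter_filter, Finset.filter_filter] at h1
  have h2 := Finset.card_filter_add_card_filter_not (s := (Finset.univ : Finset α)) (fun b => p b = b)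
  rw [Finset.card_univ] at h2
  have h3 : (Finset.univ.filter fun b => p b ≠ b ∧ Small (T : Subgroup (Perm α)) p b).card =
      2 * (Fintype.card (Pairs p) % 2) := by
    rcases Nat.mod_two_eq_zero_or_one (Fintype.card (Pairs p)) with h | h
    · rw [h, Finset.filter_eq_empty_iff.mpr, Finset.card_empty]
      intro b _ hb
      have := (small_exists_iff T hp hmem).mpr.mt
      exact absurd ((small_exists_iff T hp hmem).mp ⟨b, hb.1, hb.2⟩) (by rw [Nat.odd_iff]; omega)
    · obtain ⟨c, hc, hsc⟩ := (small_exists_iff T hp hmem).mpr (Nat.odd_iff.mpr h)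
      have hpc' : p (p c) ≠ p c := p.injective.ne hc
      rw [h, show (Finset.univ.filter fun b => p b ≠ b ∧ Small (T : Subgroup (Perm α)) p b) = {c, p c} by
        ext b
        simp only [Finset.mem_filter, Finset.mem_univ, true_and, Finset.mem_insert, Finset.mem_singleton]
        constructor
        · rintro ⟨hb, hsb⟩; exact small_unique T hp hmem hc hb hsc hsb
        · rintro (rfl | rfl)
          · exact ⟨hc, hsc⟩
          · refine ⟨hpc', ?_⟩
            have := small_image T hp hmem (hmem c) hsc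
            rwa [swap_apply_left] at this]
      exact Finset.card_pair (Ne.symm hc)
  simp only [ne_eq] at h1 h3 ⊢
  omega

include hp hmem in
/-- Elements glued from the Sylow subgroup lie in it. -/
theorem glue_mem (O : Set α) (hO : ∀ x ∈ (T : Subgroup (Perm α)), ∀ a, x a ∈ O ↔ a ∈ O) {y x₁ x₂ : Perm α}
    (h₁ : x₁ ∈ (T : Subgroup (Perm α))) (h₂ : x₂ ∈ (T : Subgroup (Perm α))) (e₁ : ∀ a ∈ O, y a = x₁ a)
    (e₂ : ∀ a, a ∉ O → y a = x₂ a) : y ∈ (T : Subgroup (Perm α)) := by
  let H : Subgroup (Perm α) :=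
    { carrier := {z | ∃ u ∈ (T : Subgroup (Perm α)), ∃ v ∈ (T : Subgroup (Perm α)),
        (∀ a ∈ O, z a = u a) ∧ ∀ a, a ∉ O → z a = v a}
      one_mem' := ⟨1, one_mem _, 1, one_mem _, fun _ _ => rfl, fun _ _ => rfl⟩
      mul_mem' := by
        rintro z z' ⟨u, hu, v, hv, eu, ev⟩ ⟨u', hu', v', hv', eu', ev'⟩
        refine ⟨u * u', mul_mem hu hu', v * v', mul_mem hv hv', fun a ha => ?_, fun a ha => ?_⟩
        · rw [Perm.mul_apply, Perm.mul_apply, eu' a ha, eu _ ((hO _ hu' a).mpr ha)]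
        · rw [Perm.mul_apply, Perm.mul_apply, ev' a ha, ev _ (fun h => ha ((hO _ hv' a).mp h))]
      inv_mem' := by
        rintro z ⟨u, hu, v, hv, eu, ev⟩
        refine ⟨u⁻¹, inv_mem hu, v⁻¹, inv_mem hv, fun a ha => ?_, fun a ha => ?_⟩
        · rw [Perm.inv_eq_iff_eq, eu _ ((hO _ (inv_mem hu) a).mpr ha)]
          simp
        · rw [Perm.inv_eq_iff_eq, ev _ (fun h => ha ((hO _ (inv_mem hv) a).mp h))]
          simp }
  have hle : (T : Subgroup (Perm α)) ≤ H := fun x hx => ⟨x, hx, x, hx, fun _ _ => rfl, fun _ _ => rfl⟩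
  have hH : IsPGroup 2 H := by
    rintro ⟨z, u, hu, v, hv, eu, ev⟩
    obtain ⟨j, hj⟩ := T.2 ⟨u, hu⟩
    obtain ⟨l, hl⟩ := T.2 ⟨v, hv⟩
    have hju : u ^ 2 ^ j = 1 := congrArg Subtype.val hj
    have hlv : v ^ 2 ^ l = 1 := congrArg Subtype.val hl
    refine ⟨j + l, Subtype.ext ?_⟩
    have hpow : ∀ k : ℕ, (∀ a ∈ O, (z ^ k) a = (u ^ k) a) ∧ ∀ a, a ∉ O → (z ^ k) a = (v ^ k) a := by
      intro k
      induction k with
      | zero => exact ⟨fun _ _ => rfl, fun _ _ => rfl⟩
      | succ k ih =>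
        refine ⟨fun a ha => ?_, fun a ha => ?_⟩
        · rw [pow_succ, pow_succ, Perm.mul_apply, Perm.mul_apply, eu a ha, ih.1 _ ((hO _ hu a).mpr ha)]
        · rw [pow_succ, pow_succ, Perm.mul_apply, Perm.mul_apply, ev a ha,
            ih.2 _ (fun h => ha ((hO _ hv a).mp h))]
    show z ^ 2 ^ (j + l) = 1
    ext a
    by_cases ha : a ∈ O
    · rw [(hpow _).1 a ha, pow_add, pow_mul, hju, one_pow]
    · rw [(hpow _).2 a ha, pow_add, mul_comm, pow_mul, hlv, one_pow]
  rw [← T.3 hH hle]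
  exact ⟨x₁, h₁, x₂, h₂, e₁, e₂⟩

end CfsgLib.AltSylowDecomp
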