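/-
Commuting normal factors of a transitive 2-group containing the transpositions of its pairing.
-/
import Cfsg.Agent.Lib.AltSylowDecomp.Orbits

set_option autoImplicit false
set_option linter.unusedSectionVars false

namespace CfsgLib.AltSylowDecomp

open Equiv CfsgLib.SymSylow

variable {β : Type*} [Fintype β] [DecidableEq β] {p : Perm β}

/-- The product of a transposition of a pair and its conjugate moves only two pairs. -/
theorem conj_swap_support (hp : ∀ a, p (p a) = a) {a : Perm β} (ha : ∀ i, p (a i) = a (p i)) (i : β) {x : β}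
    (h1 : x ≠ i) (h2 : x ≠ p i) (h3 : x ≠ a i) (h4 : x ≠ p (a i)) :
    (a * swap i (p i) * a⁻¹ * swap i (p i)) x = x := by
  rw [← Equiv.swap_apply_apply, Perm.mul_apply, swap_apply_of_ne_of_ne h1 h2,
    swap_apply_of_ne_of_ne h3 (by rw [← ha]; exact h4)]

variable (W : Subgroup (Perm β)) (hW : W ≤ pairStab p) (hinv : ∀ a, p (p a) = a) (hfp : ∀ a, p a ≠ a)
  (hsw : ∀ a, swap a (p a) ∈ W) (htr : ∀ a b, ∃ w ∈ W, w a = b)

include hW hinv hfp hsw in
theorem commute_image {A B : Subgroup (Perm β)} (hA : A ≤ W) (hnA : ∀ w ∈ W, ∀ a ∈ A, w * a * w⁻¹ ∈ A)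
    (hc : ∀ a ∈ A, ∀ b ∈ B, a * b = b * a) {a : Perm β} (ha : a ∈ A) {i : β} (h1 : a i ≠ i) (h2 : a i ≠ p i)
    {b : Perm β} (hb : b ∈ B) : b i = i ∨ b i = p i ∨ b i = a i ∨ b i = p (a i) := by
  have hai : p (a i) = a (p i) := hW (hA ha) i
  set c := a * swap i (p i) * a⁻¹ * swap i (p i) with hc'
  have hcA : c ∈ A := by
    have := mul_mem ha (hnA _ (hsw i) _ (inv_mem ha))
    rwa [Equiv.swap_inv, show a * (swap i (p i) * a⁻¹ * swap i (p i)) = c by simp only [hc', mul_assoc]] at this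
  have hci : c i = p i := by
    rw [hc', ← Equiv.swap_apply_apply, Perm.mul_apply, swap_apply_left, swap_apply_of_ne_of_ne]
    · exact fun e => h2 e.symm
    · rw [← hai]
      exact fun e => h1 (by have := congrArg p e; rwa [hinv, hinv, eq_comm] at this)
  by_contra hne
  push Not at hne
  obtain ⟨n1, n2, n3, n4⟩ := hne
  have hcb : c (b i) = b i := conj_swap_support hinv (fun j => hW (hA ha) j) i n1 n2 n3 n4
  have := congrArg (fun e : Perm β => e i) (hc c hcA b hb)
  simp only [Perm.mul_apply, hci, hcb] at this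
  exact hfp i (b.injective this.symm)

include hW htr in
theorem moves_all {A : Subgroup (Perm β)} (hnA : ∀ w ∈ W, ∀ a ∈ A, w * a * w⁻¹ ∈ A) {a : Perm β} (ha : a ∈ A)
    {i : β} (h1 : a i ≠ i) (h2 : a i ≠ p i) (j : β) : ∃ a' ∈ A, a' j ≠ j ∧ a' j ≠ p j := by
  obtain ⟨w, hw, rfl⟩ := htr i j
  refine ⟨w * a * w⁻¹, hnA w hw a ha, ?_, ?_⟩ <;> simp only [Perm.mul_apply, Perm.coe_inv, symm_apply_apply]
  · exact w.injective.ne h1
  · rw [hW hw i]
    exact w.injective.ne h2

include hW hinv htr in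
/-- A commuting factor fixing each pair is central. -/
theorem central_of_le_kernel {A B : Subgroup (Perm β)} (hA : A ≤ W) (hc : ∀ a ∈ A, ∀ b ∈ B, a * b = b * a)
    (hgen : ∀ w ∈ W, ∃ a ∈ A, ∃ b ∈ B, w = a * b) (hK : ∀ b ∈ B, ∀ i, b i = i ∨ b i = p i) :
    ∀ b ∈ B, b = 1 ∨ b = p := by
  intro b hb
  have key : ∀ i j, b i = i → b j = j := by
    intro i j hi
    obtain ⟨w, hw, rfl⟩ := htr i j
    obtain ⟨a, ha, b', hb', rfl⟩ := hgen w hw
    rw [Perm.mul_apply]
    have h0 : b (a i) = a i := by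
      have := congrArg (fun e : Perm β => e i) (hc a ha b hb)
      simp only [Perm.mul_apply, hi] at this
      exact this.symm
    rcases hK b' hb' i with e | e <;> rw [e]
    · exact h0
    · rw [← hW (hA ha) i]
      rcases hK b hb (p (a i)) with h | h
      · exact h
      · rw [hinv] at h
        have := b.injective (h.trans h0.symm)
        exact h.trans this.symm
  by_cases h : ∃ i, b i = i
  · obtain ⟨i, hi⟩ := h
    exact Or.inl (Equiv.ext fun j => key i j hi)
  · push Not at h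
    exact Or.inr (Equiv.ext fun j => (hK b hb j).resolve_left (h j))

include hW hinv hfp hsw htr in
/-- Of two commuting normal factors one is central. -/
theorem one_central (h4 : 4 ≤ Fintype.card β) {A B : Subgroup (Perm β)} (hA : A ≤ W) (hB : B ≤ W)
    (hnA : ∀ w ∈ W, ∀ a ∈ A, w * a * w⁻¹ ∈ A) (hnB : ∀ w ∈ W, ∀ b ∈ B, w * b * w⁻¹ ∈ B)
    (hc : ∀ a ∈ A, ∀ b ∈ B, a * b = b * a) (hgen : ∀ w ∈ W, ∃ a ∈ A, ∃ b ∈ B, w = a * b) :
    (∀ a ∈ A, a = 1 ∨ a = p) ∨ ∀ b ∈ B, b = 1 ∨ b = p := by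
  have hc' : ∀ b ∈ B, ∀ a ∈ A, b * a = a * b := fun b hb a ha => (hc a ha b hb).symm
  have hgen' : ∀ w ∈ W, ∃ b ∈ B, ∃ a ∈ A, w = b * a := fun w hw => by
    obtain ⟨a, ha, b, hb, rfl⟩ := hgen w hw
    exact ⟨b, hb, a, ha, hc a ha b hb⟩
  by_cases hBK : ∀ b ∈ B, ∀ i, b i = i ∨ b i = p i
  · exact Or.inr (central_of_le_kernel W hW hinv htr hA hc hgen hBK)
  by_cases hAK : ∀ a ∈ A, ∀ i, a i = i ∨ a i = p i
  · exact Or.inl (central_of_le_kernel W hW hinv htr hB hc' hgen' hAK)
  exfalso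
  push Not at hAK hBK
  obtain ⟨a, ha, i, ha1, ha2⟩ := hAK
  obtain ⟨b₀, hb₀, j, hj1, hj2⟩ := hBK
  obtain ⟨b, hb, hb1, hb2⟩ := moves_all W hW htr hnB hb₀ hj1 hj2 i
  let S : β → Prop := fun x => x = i ∨ x = p i ∨ x = a i ∨ x = p (a i)
  have hbS : ∀ b' ∈ B, S (b' i) := fun b' hb' => commute_image W hW hinv hfp hsw hA hnA hc ha ha1 ha2 hb'
  have hbi : b i = a i ∨ b i = p (a i) := by
    rcases hbS b hb with e | e | e | e
    exacts [absurd e hb1, absurd e hb2, Or.inl e, Or.inr e]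
  have haS : ∀ a' ∈ A, S (a' i) := by
    intro a' ha'
    rcases commute_image W hW hinv hfp hsw hB hnB hc' hb hb1 hb2 ha' with e | e | e | e
    · exact Or.inl e
    · exact Or.inr (Or.inl e)
    · rcases hbi with e' | e' <;> rw [e'] at e
      · exact Or.inr (Or.inr (Or.inl e))
      · exact Or.inr (Or.inr (Or.inr e))
    · rcases hbi with e' | e' <;> rw [e'] at e
      · exact Or.inr (Or.inr (Or.inr e))
      · rw [hinv] at e; exact Or.inr (Or.inr (Or.inl e))
  have hSp : ∀ x, S x → S (p x) := by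
    rintro x (e | e | e | e) <;> subst e
    · exact Or.inr (Or.inl rfl)
    · exact Or.inl (hinv i)
    · exact Or.inr (Or.inr (Or.inr rfl))
    · exact Or.inr (Or.inr (Or.inl (hinv _)))
  have hall : ∀ x, S x := by
    intro x
    obtain ⟨w, hw, rfl⟩ := htr i x
    obtain ⟨a', ha', b', hb', rfl⟩ := hgen w hw
    rw [Perm.mul_apply]
    rcases hbS b' hb' with e | e | e | e <;> rw [e]
    · exact haS a' ha'
    · rw [← hW (hA ha') i]; exact hSp _ (haS a' ha')
    · exact haS (a' * a) (mul_mem ha' ha)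
    · rw [← hW (hA ha') (a i)]; exact hSp _ (haS (a' * a) (mul_mem ha' ha))
  have kA : ∀ k : Perm β, (∀ w, k (p w) = p (k w)) → k * b = b * k → (k i = i ∨ k i = p i) → k = 1 ∨ k = p := by
    intro k hk hkb hki
    have hkbi : k (b i) = b (k i) := congrArg (fun e : Perm β => e i) hkb
    rcases hki with e | e
    · left
      rw [e] at hkbi
      ext x
      rw [Perm.one_apply]
      rcases hall x with h | h | h | h <;> rw [h]
      · exact e
      · rw [hk, e]
      · rcases hbi with e' | e' <;> rw [e'] at hkbi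
        · exact hkbi
        · have := congrArg p hkbi; rwa [← hk, hinv] at this
      · rcases hbi with e' | e' <;> rw [e'] at hkbi
        · rw [hk, hkbi]
        · exact hkbi
    · right
      rw [e, ← hW (hB hb) i] at hkbi
      ext x
      rcases hall x with h | h | h | h <;> rw [h]
      · exact e
      · rw [hk, e]
      · rcases hbi with e' | e' <;> rw [e'] at hkbi
        · exact hkbi
        · have := congrArg p hkbi; rwa [← hk, hinv] at this
      · rcases hbi with e' | e' <;> rw [e'] at hkbi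
        · rw [hk, hkbi]
        · exact hkbi
  have hWp : ∀ {w : Perm β}, w ∈ W → ∀ x, w (p x) = p (w x) := fun hw x => (hW hw x).symm
  have hA' : ∀ a' ∈ A, ∃ k : Perm β, (k = 1 ∨ k = p) ∧ (a' = k ∨ a' = a * k) := by
    intro a' ha'
    rcases haS a' ha' with e | e | e | e
    · exact ⟨a', kA a' (hWp (hA ha')) (hc a' ha' b hb) (Or.inl e), Or.inl rfl⟩
    · exact ⟨a', kA a' (hWp (hA ha')) (hc a' ha' b hb) (Or.inr e), Or.inl rfl⟩
    · refine ⟨a⁻¹ * a', kA _ (hWp (hA (mul_mem (inv_mem ha) ha'))) (hc _ (mul_mem (inv_mem ha) ha') b hb)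
        (Or.inl ?_), Or.inr (by rw [mul_inv_cancel_left])⟩
      rw [Perm.mul_apply, e, Perm.coe_inv, symm_apply_apply]
    · refine ⟨a⁻¹ * a', kA _ (hWp (hA (mul_mem (inv_mem ha) ha'))) (hc _ (mul_mem (inv_mem ha) ha') b hb)
        (Or.inr ?_), Or.inr (by rw [mul_inv_cancel_left])⟩
      rw [Perm.mul_apply, e, hW (hA ha) i, Perm.coe_inv, symm_apply_apply]
  have hpc : ∀ w ∈ W, w * p = p * w := fun w hw => Equiv.ext fun x => (hW hw x).symm
  have haA : ∀ a' ∈ A, a * a' = a' * a := by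
    intro a' ha'
    obtain ⟨k, hk, e | e⟩ := hA' a' ha' <;> rcases hk with hk | hk <;> rw [e, hk]
    · simp
    · exact hpc a (hA ha)
    · simp
    · rw [mul_assoc a p a, ← hpc a (hA ha)]
  obtain ⟨a', ha', b', hb', e⟩ := hgen _ (hsw i)
  have hcomm : a * swap i (p i) = swap i (p i) * a := by
    rw [e, ← mul_assoc, haA a' ha', mul_assoc, hc a ha b' hb', ← mul_assoc]
  have := congrArg (fun e : Perm β => e i) hcomm
  simp only [Perm.mul_apply, swap_apply_left] at this
  rw [swap_apply_of_ne_of_ne ha1 ha2, ← hW (hA ha) i] at this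
  exact hfp (a i) this

end CfsgLib.AltSylowDecomp
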