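/-
Even parts of Sylow 2-subgroups: restrictions, commutators, commuting factors.
-/
import Cfsg.Agent.Lib.AltSylowDecomp.Wreath

set_option autoImplicit false
set_option linter.unusedSectionVars false
set_option linter.style.haveILetI false

universe u

namespace CfsgLib.AltSylowDecomp

open Equiv CfsgLib.SymSylow

variable {α : Type u} [Fintype α] [DecidableEq α]

/-- A set kept by a subgroup. -/
def Stable (T : Subgroup (Perm α)) (R : Set α) : Prop := ∀ x ∈ T, ∀ a, x a ∈ R ↔ a ∈ R

open Classical in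
/-- The restriction of a permutation to a stable set, extended by the identity. -/
noncomputable def res (R : Set α) (x : Perm α) (h : ∀ a, x a ∈ R ↔ a ∈ R) : Perm α :=
  Perm.ofSubtype (x.subtypePerm h : Perm {a // a ∈ R})

theorem res_mem_apply {R : Set α} {x : Perm α} (h : ∀ a, x a ∈ R ↔ a ∈ R) {a : α} (ha : a ∈ R) :
    res R x h a = x a := by
  classical
  rw [res, Perm.ofSubtype_apply_of_mem (x.subtypePerm h : Perm {a // a ∈ R}) ha]
  rfl

theorem res_not_mem_apply {R : Set α} {x : Perm α} (h : ∀ a, x a ∈ R ↔ a ∈ R) {a : α} (ha : a ∉ R) :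
    res R x h a = a := by
  classical
  rw [res, Perm.ofSubtype_apply_of_not_mem (x.subtypePerm h : Perm {a // a ∈ R}) ha]

theorem eq_one_or_neg {x : Perm α} : Perm.sign x = 1 ∨ Perm.sign x = -1 := Int.units_eq_one_or _

theorem sign_commutator (x y : Perm α) : Perm.sign (x * y * x⁻¹ * y⁻¹) = 1 := by
  rw [map_mul, map_mul, map_mul, map_inv, map_inv, mul_comm (Perm.sign x), mul_inv_cancel_right, mul_inv_cancel]

variable (T : Sylow 2 (Perm α)) {p : Perm α} (hp : IsPairing p)
  (hmem : ∀ a, swap a (p a) ∈ (T : Subgroup (Perm α)))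

include hp hmem in
theorem pairing_mem : p ∈ (T : Subgroup (Perm α)) :=
  pairKernel_le_sylow hp T (le_pairStab T hp hmem) fun _ => Or.inr rfl

include hp hmem in
theorem res_mem {R : Set α} (hR : Stable (T : Subgroup (Perm α)) R) {x : Perm α}
    (hx : x ∈ (T : Subgroup (Perm α))) : res R x (hR x hx) ∈ (T : Subgroup (Perm α)) :=
  glue_mem T hp hmem R hR hx (one_mem _) (fun _ ha => res_mem_apply _ ha) fun _ ha => res_not_mem_apply _ ha

/-- The big moved points. -/
def Big (a : α) : Prop := p a ≠ a ∧ ¬ Small (T : Subgroup (Perm α)) p a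

include hp hmem in
theorem big_image {x : Perm α} (hx : x ∈ (T : Subgroup (Perm α))) (a : α) :
    Big T (p := p) (x a) ↔ Big T (p := p) a := by
  unfold Big
  rw [small_image_iff T hp hmem hx, comm_apply hp hmem hx, x.injective.ne_iff]

include hp hmem in
theorem p_big {a : α} : Big T (p := p) (p a) ↔ Big T (p := p) a := big_image T hp hmem (pairing_mem T hp hmem) a

include hp hmem in
/-- An element moving every big pair to a partner pair. -/
theorem exists_global :
    ∃ u ∈ (T : Subgroup (Perm α)), ∀ a, Big T (p := p) a → u a ≠ a ∧ u a ≠ p a ∧ (u (u a) = a ∨ u (u a) = p a) := by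
  obtain ⟨p', hp', hmem'⟩ := exists_pairing_mem (quot T hp hmem)
  obtain ⟨x, hx, e⟩ := (mem_quot T hp hmem).mp (pairing_mem (quot T hp hmem) hp' hmem')
  refine ⟨x.1, hx, fun a ha => ?_⟩
  have hne : p' (pr p a ha.1) ≠ pr p a ha.1 := fun h => ha.2 ((small_iff_fixed T hp hmem ha.1).mpr fun y hy =>
    hp'.fixed _ _ (by rw [comm_apply hp' hmem' hy, h]) h)
  rw [← e, pairHom_pr, Ne, eq_comm, pr_eq hp] at hne
  push Not at hne
  refine ⟨hne.1, hne.2, ?_⟩
  have h2 := hp'.invol (pr p a ha.1)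
  rw [← e, pairHom_pr, pairHom_pr, eq_comm, pr_eq hp] at h2
  exact h2

include hp hmem in
/-- The pairing on a stable set of big points, missing a moved point, is a commutator of even elements. -/
theorem res_pairing_commutator {R : Set α} (hR : Stable (T : Subgroup (Perm α)) R)
    (hbig : ∀ a ∈ R, Big T (p := p) a) {c : α} (hc : p c ≠ c) (hcR : c ∉ R) :
    ∃ u ∈ (T : Subgroup (Perm α)), ∃ k ∈ (T : Subgroup (Perm α)), Perm.sign u = 1 ∧ Perm.sign k = 1 ∧
      res R p (hR p (pairing_mem T hp hmem)) = u * k * u⁻¹ * k⁻¹ := by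
  classical
  obtain ⟨u₀, hu₀, hu⟩ := exists_global T hp hmem
  let e := Fintype.equivFin α
  let lo : α → ℕ := fun a => min (e a).val (e (p a)).val
  have lop : ∀ a, lo (p a) = lo a := fun a => by simp only [lo, hp.invol, min_comm]
  have loeq : ∀ a b, lo a = lo b → b = a ∨ b = p a := by
    intro a b h
    simp only [lo] at h
    rcases le_total (e a).val (e (p a)).val with ha | ha <;> rcases le_total (e b).val (e (p b)).val with hb | hb
    · rw [min_eq_left ha, min_eq_left hb] at h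
      exact Or.inl (e.injective (Fin.ext h)).symm
    · rw [min_eq_left ha, min_eq_right hb] at h
      exact Or.inr (by rw [e.injective (Fin.ext h), hp.invol])
    · rw [min_eq_right ha, min_eq_left hb] at h
      exact Or.inr (e.injective (Fin.ext h)).symm
    · rw [min_eq_right ha, min_eq_right hb] at h
      exact Or.inl (p.injective (e.injective (Fin.ext h))).symm
  let C : Set α := {a | a ∈ R ∧ lo a < lo (u₀ a)}
  have hpT := pairing_mem T hp hmem
  have hC : ∀ a, p a ∈ C ↔ a ∈ C := fun a => by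
    show (p a ∈ R ∧ lo (p a) < lo (u₀ (p a))) ↔ _
    rw [hR p hpT, lop, ← comm_apply hp hmem hu₀, lop]
    rfl
  set u₁ := res R u₀ (hR u₀ hu₀)
  set k₁ := res C p hC
  set t := swap c (p c)
  have hk₁T : k₁ ∈ (T : Subgroup (Perm α)) := pairKernel_le_sylow hp T (le_pairStab T hp hmem) fun a => by
    by_cases ha : a ∈ C
    · exact Or.inr (res_mem_apply _ ha)
    · exact Or.inl (res_not_mem_apply _ ha)
  have hu₁T : u₁ ∈ (T : Subgroup (Perm α)) := res_mem T hp hmem hR hu₀
  have htT : t ∈ (T : Subgroup (Perm α)) := hmem c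
  have hpcR : p c ∉ R := fun h => hcR ((hR p hpT c).mp h)
  have htu : t * u₁ = u₁ * t := by
    show swap c (p c) * u₁ = u₁ * swap c (p c)
    rw [Equiv.mul_swap_eq_swap_mul u₁ c (p c), res_not_mem_apply _ hcR, res_not_mem_apply _ hpcR]
  have htk : t * k₁ = k₁ * t := by
    show swap c (p c) * k₁ = k₁ * swap c (p c)
    rw [Equiv.mul_swap_eq_swap_mul k₁ c (p c), res_not_mem_apply _ fun h => hcR h.1,
      res_not_mem_apply _ fun h => hpcR h.1]
  have hev : ∀ x : Perm α, ∃ y : Perm α, (y = 1 ∨ y = t) ∧ Perm.sign (x * y) = 1 := fun x => by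
    rcases eq_one_or_neg (x := x) with h | h
    · exact ⟨1, Or.inl rfl, by rw [mul_one, h]⟩
    · exact ⟨t, Or.inr rfl, by rw [map_mul, h, Perm.sign_swap (Ne.symm hc)]; rfl⟩
  obtain ⟨y, hy, hsu⟩ := hev u₁
  obtain ⟨z, hz, hsk⟩ := hev k₁
  have hyc : Commute u₁ y ∧ Commute k₁ y ∧ y ∈ (T : Subgroup (Perm α)) := by
    rcases hy with rfl | rfl
    exacts [⟨Commute.one_right _, Commute.one_right _, one_mem _⟩, ⟨htu.symm, htk.symm, htT⟩]
  have hzc : Commute u₁ z ∧ Commute k₁ z ∧ z ∈ (T : Subgroup (Perm α)) := by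
    rcases hz with rfl | rfl
    exacts [⟨Commute.one_right _, Commute.one_right _, one_mem _⟩, ⟨htu.symm, htk.symm, htT⟩]
  have hyz : Commute y z := by
    rcases hy with rfl | rfl <;> rcases hz with rfl | rfl
    exacts [Commute.one_left _, Commute.one_left _, Commute.one_right _, Commute.refl _]
  refine ⟨u₁ * y, mul_mem hu₁T hyc.2.2, k₁ * z, mul_mem hk₁T hzc.2.2, hsu, hsk, ?_⟩
  have e1 : u₁ * y * (k₁ * z) * (u₁ * y)⁻¹ * (k₁ * z)⁻¹ = u₁ * k₁ * u₁⁻¹ * k₁⁻¹ := by
    have a1 : y * (k₁ * z) = k₁ * z * y := (hyc.2.1.symm.mul_right hyz).eq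
    have a2 : z * u₁⁻¹ = u₁⁻¹ * z := (hzc.1.inv_left).eq.symm
    calc u₁ * y * (k₁ * z) * (u₁ * y)⁻¹ * (k₁ * z)⁻¹
        = u₁ * (y * (k₁ * z)) * y⁻¹ * u₁⁻¹ * z⁻¹ * k₁⁻¹ := by group
      _ = u₁ * k₁ * (z * u₁⁻¹) * z⁻¹ * k₁⁻¹ := by rw [a1]; group
      _ = u₁ * k₁ * u₁⁻¹ * k₁⁻¹ := by rw [a2]; group
  rw [e1, eq_mul_inv_iff_mul_eq, eq_mul_inv_iff_mul_eq]
  ext a
  simp only [Perm.mul_apply]
  by_cases ha : a ∈ R
  · rw [res_mem_apply _ ha]
    have hua : u₀ a ∈ R := (hR u₀ hu₀ a).mpr ha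
    show res R p _ (res C p hC (u₀ a)) = res R u₀ _ (res C p hC a)
    obtain ⟨n1, n2, n3⟩ := hu a (hbig a ha)
    have hlo : lo (u₀ (u₀ a)) = lo a := by rcases n3 with h | h <;> rw [h] <;> simp [lop]
    have hne : lo a ≠ lo (u₀ a) := fun h => by
      rcases loeq _ _ h with h | h
      exacts [n1 h, n2 h]
    by_cases hac : a ∈ C
    · have hu2 : u₀ a ∉ C := fun h => by
        have h1 := h.2
        rw [hlo] at h1
        exact absurd hac.2 (by omega)
      rw [res_not_mem_apply _ hu2, res_mem_apply _ hua, res_mem_apply _ hac,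
        res_mem_apply _ ((hR p hpT a).mpr ha), comm_apply hp hmem hu₀]
    · have hu2 : u₀ a ∈ C := ⟨hua, by
        rw [hlo]
        have : ¬ lo a < lo (u₀ a) := fun h => hac ⟨ha, h⟩
        omega⟩
      rw [res_not_mem_apply _ hac, res_mem_apply _ hu2, res_mem_apply _ ((hR p hpT _).mpr hua), hp.invol,
        res_mem_apply _ ha]
  · have hac : a ∉ C := fun h => ha h.1
    rw [res_not_mem_apply _ ha]
    show res R p _ (res C p hC a) = res R u₀ _ (res C p hC a)
    rw [res_not_mem_apply _ hac, res_not_mem_apply _ ha, res_not_mem_apply _ ha]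

end CfsgLib.AltSylowDecomp
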