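/-
When the even part of a Sylow 2-subgroup of a symmetric group is a direct product.
-/
import Cfsg.Agent.Lib.AltSylowDecomp.Even

set_option autoImplicit false
set_option linter.unusedSectionVars false
set_option linter.style.haveILetI false

universe u

namespace CfsgLib.AltSylowDecomp

open Equiv CfsgLib.SymSylow

variable {α : Type u} [Fintype α] [DecidableEq α]

/-- A decomposition of the even part of `T` into two commuting factors. -/
structure Dec (T : Subgroup (Perm α)) (S₁ S₂ : Subgroup (Perm α)) : Prop where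
  le₁ : S₁ ≤ T
  le₂ : S₂ ≤ T
  ev₁ : ∀ x ∈ S₁, Perm.sign x = 1
  ev₂ : ∀ x ∈ S₂, Perm.sign x = 1
  comm : ∀ a ∈ S₁, ∀ b ∈ S₂, a * b = b * a
  disj : ∀ x, x ∈ S₁ → x ∈ S₂ → x = 1
  gen : ∀ x ∈ T, Perm.sign x = 1 → ∃ a ∈ S₁, ∃ b ∈ S₂, x = a * b

theorem Dec.symm {T S₁ S₂ : Subgroup (Perm α)} (h : Dec T S₁ S₂) : Dec T S₂ S₁ :=
  ⟨h.le₂, h.le₁, h.ev₂, h.ev₁, fun a ha b hb => (h.comm b hb a ha).symm, fun x a b => h.disj x b a,
    fun x hx hs => by
      obtain ⟨a, ha, b, hb, rfl⟩ := h.gen x hx hs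
      exact ⟨b, hb, a, ha, h.comm a ha b hb⟩⟩

theorem Dec.conj {T S₁ S₂ : Subgroup (Perm α)} (h : Dec T S₁ S₂) {x : Perm α} (hx : x ∈ T)
    (hs : Perm.sign x = 1) {s : Perm α} (hm : s ∈ S₁) : x * s * x⁻¹ ∈ S₁ := by
  obtain ⟨a, ha, b, hb, rfl⟩ := h.gen x hx hs
  rw [show a * b * s * (a * b)⁻¹ = a * (b * s * b⁻¹) * a⁻¹ by group, ← h.comm s hm b hb, mul_inv_cancel_right]
  exact mul_mem (mul_mem ha hm) (inv_mem ha)

/-- On the orbit of `a` the elements of `S` act as powers of the pairing. -/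
def Cen (T : Subgroup (Perm α)) (p : Perm α) (S : Subgroup (Perm α)) (a : α) : Prop :=
  ∀ s ∈ S, (∀ w ∈ T, s (w a) = w a) ∨ ∀ w ∈ T, s (w a) = p (w a)

theorem Cen.image {T S : Subgroup (Perm α)} {p : Perm α} {a : α} (h : Cen T p S a) {w : Perm α} (hw : w ∈ T) :
    Cen T p S (w a) := fun s hs => (h s hs).imp
  (fun e v hv => by rw [← Perm.mul_apply]; exact e _ (mul_mem hv hw))
  (fun e v hv => by rw [← Perm.mul_apply]; exact e _ (mul_mem hv hw))

variable (T : Sylow 2 (Perm α)) {p : Perm α} (hp : IsPairing p)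
  (hmem : ∀ a, swap a (p a) ∈ (T : Subgroup (Perm α))) {S₁ S₂ : Subgroup (Perm α)}
  (hD : Dec (T : Subgroup (Perm α)) S₁ S₂)

/-- The orbit of a point. -/
def orb (a : α) : Set α := {b | ∃ w ∈ (T : Subgroup (Perm α)), w a = b}

theorem self_mem_orb (a : α) : a ∈ orb T a := ⟨1, one_mem _, rfl⟩

theorem orb_stable (a : α) : Stable (T : Subgroup (Perm α)) (orb T a) := fun x hx b =>
  ⟨fun ⟨w, hw, e⟩ => ⟨x⁻¹ * w, mul_mem (inv_mem hx) hw, by rw [Perm.mul_apply, e]; simp⟩,
    fun ⟨w, hw, e⟩ => ⟨x * w, mul_mem hx hw, by rw [Perm.mul_apply, e]⟩⟩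

include hp hmem in
theorem orb_big {a b : α} (ha : Big T (p := p) a) (hb : b ∈ orb T a) : Big T (p := p) b := by
  obtain ⟨w, hw, rfl⟩ := hb
  exact (big_image T hp hmem hw a).mpr ha

include hp hmem hD in
/-- On a big orbit missing some moved point one factor is central. -/
theorem cen_or {a c : α} (ha : Big T (p := p) a) (hc : p c ≠ c) (hcO : c ∉ orb T a) :
    Cen (T : Subgroup (Perm α)) p S₁ a ∨ Cen (T : Subgroup (Perm α)) p S₂ a := by
  classical
  have hO := orb_stable T a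
  have hpT := pairing_mem T hp hmem
  let r : (T : Subgroup (Perm α)) →* Perm {b // b ∈ orb T a} :=
    { toFun := fun x => x.1.subtypePerm (hO x.1 x.2)
      map_one' := Equiv.ext fun b => rfl
      map_mul' := fun x y => Equiv.ext fun b => rfl }
  have r_app : ∀ (x : (T : Subgroup (Perm α))) b, (r x b).1 = x.1 b.1 := fun x b => rfl
  let pO := r ⟨p, hpT⟩
  have hW : ∀ x : (T : Subgroup (Perm α)), ∃ y : (T : Subgroup (Perm α)), Perm.sign y.1 = 1 ∧ r y = r x := by
    intro x
    rcases eq_one_or_neg (x := x.1) with h | h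
    · exact ⟨x, h, rfl⟩
    · refine ⟨x * ⟨_, hmem c⟩, by rw [Subgroup.coe_mul, map_mul, h, Perm.sign_swap (Ne.symm hc)]; rfl,
        Equiv.ext fun b => Subtype.ext ?_⟩
      rw [r_app, r_app, Subgroup.coe_mul, Perm.mul_apply, swap_apply_of_ne_of_ne]
      · exact fun e => hcO (e ▸ b.2)
      · exact fun e => hcO ((hO p hpT c).mp (e ▸ b.2))
  have hmap : ∀ {S : Subgroup (Perm α)}, S ≤ (T : Subgroup (Perm α)) →
      ∀ {y}, y ∈ (S.subgroupOf (T : Subgroup (Perm α))).map r ↔
        ∃ s : (T : Subgroup (Perm α)), s.1 ∈ S ∧ r s = y := fun _ _ => Iff.rfl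
  have nor : ∀ {S S' : Subgroup (Perm α)}, Dec (T : Subgroup (Perm α)) S S' → ∀ w ∈ r.range,
      ∀ y ∈ (S.subgroupOf (T : Subgroup (Perm α))).map r,
        w * y * w⁻¹ ∈ (S.subgroupOf (T : Subgroup (Perm α))).map r := by
    rintro S S' hd _ ⟨x, rfl⟩ _ ⟨s, hs, rfl⟩
    obtain ⟨x', hx', e⟩ := hW x
    exact ⟨x' * s * x'⁻¹, hd.conj x'.2 hx' hs, by rw [map_mul, map_mul, map_inv, e]⟩
  have h4 : 4 ≤ Fintype.card {b // b ∈ orb T a} := by
    obtain ⟨w, hw, hwa, hwp⟩ : ∃ w ∈ (T : Subgroup (Perm α)), w a ≠ a ∧ w a ≠ p a := by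
      have := ha.2
      unfold Small at this
      push Not at this
      exact this
    have e1 : p (w a) ≠ a := fun e => hwp (by have := congrArg p e; rwa [hp.invol] at this)
    have e2 : p (w a) ≠ p a := fun e => hwa (p.injective e)
    have e3 : p (w a) ≠ w a := by rw [comm_apply hp hmem hw]; exact w.injective.ne ha.1
    have n1 : a ≠ p a := Ne.symm ha.1
    have n4 : p a ≠ w a := Ne.symm hwp
    let f : Fin 4 → {b // b ∈ orb T a} := ![⟨a, self_mem_orb T a⟩, ⟨p a, p, hpT, rfl⟩, ⟨w a, w, hw, rfl⟩,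
      ⟨p (w a), p * w, mul_mem hpT hw, rfl⟩]
    have hf : Function.Injective f := by
      intro i j h
      have h' := congrArg Subtype.val h
      fin_cases i <;> fin_cases j <;>
        simp [f, n1, n1.symm, n4, n4.symm, hwa, hwa.symm, e1, e1.symm, e2, e2.symm, e3, e3.symm] at h' ⊢
    simpa using Fintype.card_le_of_injective f hf
  have := one_central (p := pO) r.range (fun y hy b => by
      obtain ⟨x, rfl⟩ := hy
      exact Subtype.ext (comm_apply hp hmem x.2 b.1))
    (fun b => Subtype.ext (hp.invol b.1))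
    (fun b => fun e => (orb_big T hp hmem ha b.2).1 (congrArg Subtype.val e))
    (fun b => ⟨⟨_, hmem b.1⟩, Equiv.ext fun x => Subtype.ext
      (Subtype.val_injective.swap_apply b (pO b) x)⟩)
    (fun b d => by
      obtain ⟨v, hv, e1⟩ := b.2
      obtain ⟨w, hw, e2⟩ := d.2
      exact ⟨r ⟨w * v⁻¹, mul_mem hw (inv_mem hv)⟩, ⟨_, rfl⟩, Subtype.ext (by
        rw [r_app]; show (w * v⁻¹) b.1 = d.1; rw [← e1, ← e2]; simp)⟩)
    h4 (A := (S₁.subgroupOf (T : Subgroup (Perm α))).map r) (B := (S₂.subgroupOf (T : Subgroup (Perm α))).map r)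
    (Subgroup.map_le_range _ _) (Subgroup.map_le_range _ _) (nor hD) (nor hD.symm)
    (by
      rintro _ ⟨s, hs, rfl⟩ _ ⟨s', hs', rfl⟩
      rw [← map_mul, ← map_mul]
      exact congrArg r (Subtype.ext (hD.comm _ hs _ hs')))
    (by
      rintro _ ⟨x, rfl⟩
      obtain ⟨x', hx', e⟩ := hW x
      obtain ⟨s, hs, s', hs', e'⟩ := hD.gen _ x'.2 hx'
      exact ⟨r ⟨s, hD.le₁ hs⟩, ⟨⟨s, hD.le₁ hs⟩, hs, rfl⟩, r ⟨s', hD.le₂ hs'⟩, ⟨⟨s', hD.le₂ hs'⟩, hs', rfl⟩, by
        rw [← e, ← map_mul]; exact congrArg r (Subtype.ext e')⟩)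
  refine this.imp (fun h s hs => ?_) (fun h s hs => ?_)
  · rcases h _ ⟨⟨s, hD.le₁ hs⟩, hs, rfl⟩ with e | e
    · exact Or.inl fun w hw => congrArg Subtype.val (DFunLike.congr_fun e (⟨w a, w, hw, rfl⟩ : {b // b ∈ orb T a}))
    · exact Or.inr fun w hw => congrArg Subtype.val (DFunLike.congr_fun e (⟨w a, w, hw, rfl⟩ : {b // b ∈ orb T a}))
  · rcases h _ ⟨⟨s, hD.le₂ hs⟩, hs, rfl⟩ with e | e
    · exact Or.inl fun w hw => congrArg Subtype.val (DFunLike.congr_fun e (⟨w a, w, hw, rfl⟩ : {b // b ∈ orb T a}))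
    · exact Or.inr fun w hw => congrArg Subtype.val (DFunLike.congr_fun e (⟨w a, w, hw, rfl⟩ : {b // b ∈ orb T a}))

include hp hmem in
theorem not_big {a : α} (ha : ¬ Big T (p := p) a) {x : Perm α} (hx : x ∈ (T : Subgroup (Perm α))) :
    x a = a ∨ (x a = p a ∧ p a ≠ a ∧ Small (T : Subgroup (Perm α)) p a) := by
  by_cases hpa : p a = a
  · exact Or.inl (hp.fixed _ _ (by rw [comm_apply hp hmem hx, hpa]) hpa)
  · have hs : Small (T : Subgroup (Perm α)) p a := by
      by_contra h
      exact ha ⟨hpa, h⟩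
    exact (hs x hx).imp id fun e => ⟨e, hpa, hs⟩

include hp hmem in
/-- An element trivial on the big points is trivial or a transposition. -/
theorem small_part {z : Perm α} (hz : z ∈ (T : Subgroup (Perm α))) (h : ∀ a, Big T (p := p) a → z a = a) :
    Perm.sign z = 1 → z = 1 := by
  intro hs
  by_contra hne
  obtain ⟨c, hc⟩ : ∃ c, z c ≠ c := by
    by_contra e
    push Not at e
    exact hne (Equiv.ext e)
  obtain ⟨hc1, hc2, hc3⟩ := (not_big T hp hmem (fun hb => hc (h c hb)) hz).resolve_left hc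
  have : z = swap c (p c) := Equiv.ext fun d => by
    by_cases hd : d = c
    · rw [hd, hc1, swap_apply_left]
    by_cases hd' : d = p c
    · rw [hd', swap_apply_right, ← comm_apply hp hmem hz, hc1, hp.invol]
    rw [swap_apply_of_ne_of_ne hd hd']
    by_cases hb : Big T (p := p) d
    · exact h d hb
    rcases not_big T hp hmem hb hz with e | ⟨-, hpd, hsd⟩
    · exact e
    · rcases small_unique T hp hmem hc2 hpd hc3 hsd with e | e
      exacts [absurd e hd, absurd e hd']
  rw [this, Perm.sign_swap (Ne.symm hc2)] at hs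
  exact absurd hs (by decide)

include hp hmem hD in
theorem res_mem_first (hab : ∀ b ∈ S₂, ∀ b' ∈ S₂, b * b' = b' * b) {R : Set α}
    (hR : Stable (T : Subgroup (Perm α)) R) (hbig : ∀ a ∈ R, Big T (p := p) a) {c : α} (hc : p c ≠ c)
    (hcR : c ∉ R) : res R p (hR p (pairing_mem T hp hmem)) ∈ S₁ := by
  obtain ⟨u, hu, k, hk, hsu, hsk, e⟩ := res_pairing_commutator T hp hmem hR hbig hc hcR
  obtain ⟨a, ha, b, hb, rfl⟩ := hD.gen u hu hsu
  obtain ⟨a', ha', b', hb', rfl⟩ := hD.gen k hk hsk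
  rw [e]
  have c2 : Commute a' b := hD.comm a' ha' b hb
  have e' : a * b * (a' * b') * (a * b)⁻¹ * (a' * b')⁻¹ = a * a' * a⁻¹ * a'⁻¹ :=
    calc a * b * (a' * b') * (a * b)⁻¹ * (a' * b')⁻¹
        = a * (b * a') * (b' * b⁻¹) * a⁻¹ * b'⁻¹ * a'⁻¹ := by group
      _ = a * (a' * b) * (b⁻¹ * b') * a⁻¹ * b'⁻¹ * a'⁻¹ := by
          rw [c2.eq, show b' * b⁻¹ = b⁻¹ * b' from (hab _ (inv_mem hb) _ hb').symm]
      _ = a * a' * (b' * a⁻¹) * b'⁻¹ * a'⁻¹ := by group
      _ = a * a' * (a⁻¹ * b') * b'⁻¹ * a'⁻¹ := by rw [← hD.comm _ (inv_mem ha) _ hb']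
      _ = a * a' * a⁻¹ * a'⁻¹ := by group
  rw [e']
  exact mul_mem (mul_mem (mul_mem ha ha') (inv_mem ha)) (inv_mem ha')

include hp hmem hD in
/-- A factor central on every big orbit is trivial. -/
theorem eq_bot_of_cen (hcen : ∀ a, Big T (p := p) a → Cen (T : Subgroup (Perm α)) p S₂ a)
    (hout : ∀ a, Big T (p := p) a → ∃ c, p c ≠ c ∧ c ∉ orb T a) : S₂ = ⊥ := by
  classical
  have hval : ∀ s ∈ S₂, ∀ a, s a = a ∨ s a = p a := fun s hs a => by
    by_cases ha : Big T (p := p) a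
    · exact (hcen a ha s hs).imp (fun h => h 1 (one_mem _)) (fun h => h 1 (one_mem _))
    · exact (not_big T hp hmem ha (hD.le₂ hs)).imp id And.left
  have hab : ∀ b ∈ S₂, ∀ b' ∈ S₂, b * b' = b' * b := by
    intro b hb b' hb'
    ext a
    simp only [Perm.mul_apply]
    rcases hval b hb a with e | e <;> rcases hval b' hb' a with e' | e'
    · rw [e', e, e']
    · rw [e', e, e', ← comm_apply hp hmem (hD.le₂ hb), e]
    · rw [e', e, ← comm_apply hp hmem (hD.le₂ hb'), e']
    · rw [e', e, ← comm_apply hp hmem (hD.le₂ hb), e, ← comm_apply hp hmem (hD.le₂ hb'), e']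
  refine (Subgroup.eq_bot_iff_forall _).mpr fun s hs => hD.disj s ?_ hs
  set R : Set α := {a | Big T (p := p) a ∧ s a ≠ a}
  have hmv : ∀ a, Big T (p := p) a → ∀ w ∈ (T : Subgroup (Perm α)), (s (w a) = w a ↔ s a = a) := by
    intro a ha w hw
    rcases hcen a ha s hs with h | h
    · exact ⟨fun _ => h 1 (one_mem _), fun _ => h w hw⟩
    · rw [show s a = p a from h 1 (one_mem _), h w hw, comm_apply hp hmem hw, w.injective.eq_iff]
  have hR : Stable (T : Subgroup (Perm α)) R := fun w hw a => by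
    show Big T (p := p) (w a) ∧ _ ↔ Big T (p := p) a ∧ _
    rw [big_image T hp hmem hw]
    exact and_congr_right fun ha => not_congr (hmv a ha w hw)
  have hpT := pairing_mem T hp hmem
  set z := res R p (hR p hpT) with hz
  have hzS : z ∈ S₁ := by
    by_cases hall : ∃ c, p c ≠ c ∧ c ∉ R
    · obtain ⟨c, hc, hcR⟩ := hall
      exact res_mem_first T hp hmem hD hab hR (fun a ha => ha.1) hc hcR
    push Not at hall
    rcases R.eq_empty_or_nonempty with hRe | ⟨a, ha⟩
    · rw [show z = 1 from Equiv.ext fun d => by rw [hz, res_not_mem_apply _ (by rw [hRe]; simp)]; rfl]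
      exact one_mem _
    obtain ⟨c, hc, hcO⟩ := hout a ha.1
    have hO := orb_stable T a
    have hR' : Stable (T : Subgroup (Perm α)) (R \ orb T a) := fun w hw d =>
      and_congr (hR w hw d) (not_congr (hO w hw d))
    have hOR : ∀ d, d ∈ orb T a → d ∈ R := fun d hd => hall d (orb_big T hp hmem ha.1 hd).1
    have e : z = res (orb T a) p (hO p hpT) * res (R \ orb T a) p (hR' p hpT) := Equiv.ext fun d => by
      rw [Perm.mul_apply, hz]
      by_cases hdR : d ∈ R
      · rw [res_mem_apply _ hdR]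
        by_cases hdO : d ∈ orb T a
        · rw [res_not_mem_apply _ (show d ∉ R \ orb T a from fun h => h.2 hdO), res_mem_apply _ hdO]
        · rw [res_mem_apply _ (show d ∈ R \ orb T a from ⟨hdR, hdO⟩),
            res_not_mem_apply _ fun h => hdO ((hO p hpT d).mp h)]
      · have hdO : d ∉ orb T a := fun h => hdR (hOR d h)
        rw [res_not_mem_apply _ hdR, res_not_mem_apply _ (show d ∉ R \ orb T a from fun h => hdR h.1), res_not_mem_apply _ hdO]
    rw [e]
    exact mul_mem (res_mem_first T hp hmem hD hab hO (fun d hd => orb_big T hp hmem ha.1 hd) hc hcO)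
      (res_mem_first T hp hmem hD hab hR' (fun d hd => hd.1.1) ha.1.1 fun h => h.2 (self_mem_orb T a))
  have : z⁻¹ * s = 1 := by
    refine small_part T hp hmem (mul_mem (inv_mem (hD.le₁ hzS)) (hD.le₂ hs)) (fun a ha => ?_)
      (by rw [map_mul, map_inv, hD.ev₁ z hzS, hD.ev₂ s hs]; rfl)
    rw [Perm.mul_apply, Perm.inv_eq_iff_eq]
    by_cases hsa : s a = a
    · rw [hsa, hz, res_not_mem_apply _ fun h => h.2 hsa]
    · rw [hz, res_mem_apply _ (show a ∈ R from ⟨ha, hsa⟩), (hval s hs a).resolve_left hsa]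
  rwa [← inv_mul_eq_one.mp this]

/-- The sign on a stable set. -/
noncomputable def signOn {J : Set α} (hJ : Stable (T : Subgroup (Perm α)) J) :
    (T : Subgroup (Perm α)) →* ℤˣ where
  toFun x := Perm.sign (res J x.1 (hJ x.1 x.2))
  map_one' := by
    rw [show res J (1 : (T : Subgroup (Perm α))).1 (hJ _ (one_mem _)) = 1 from Equiv.ext fun a => by
      by_cases ha : a ∈ J
      · exact res_mem_apply _ ha
      · exact res_not_mem_apply _ ha, map_one]
  map_mul' x y := by
    rw [← map_mul]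
    refine congrArg _ (Equiv.ext fun a => ?_)
    rw [Perm.mul_apply]
    by_cases ha : a ∈ J
    · rw [res_mem_apply _ ha, res_mem_apply _ ha, res_mem_apply _ ((hJ y.1 y.2 a).mpr ha)]
      rfl
    · rw [res_not_mem_apply _ ha, res_not_mem_apply _ ha, res_not_mem_apply _ ha]

include hp hmem in
/-- Where a factor acts by powers of the pairing it is even. -/
theorem signOn_eq_one {J : Set α} (hJ : Stable (T : Subgroup (Perm α)) J) (hbig : ∀ a ∈ J, Big T (p := p) a)
    {i : α} (hi : p i ≠ i) (hiJ : i ∉ J) {S : Subgroup (Perm α)} (hcen : ∀ a ∈ J, Cen (T : Subgroup (Perm α)) p S a)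
    {s : (T : Subgroup (Perm α))} (hs : s.1 ∈ S) : signOn T hJ s = 1 := by
  have hpT := pairing_mem T hp hmem
  set R : Set α := {a | a ∈ J ∧ s.1 a ≠ a}
  have hR : Stable (T : Subgroup (Perm α)) R := fun w hw a => by
    show w a ∈ J ∧ _ ↔ a ∈ J ∧ _
    rw [hJ w hw a]
    refine and_congr_right fun ha => not_congr ?_
    rcases hcen a ha s.1 hs with h | h
    · exact ⟨fun _ => h 1 (one_mem _), fun _ => h w hw⟩
    · rw [show s.1 a = p a from h 1 (one_mem _), h w hw, comm_apply hp hmem hw, w.injective.eq_iff]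
  obtain ⟨u, -, k, -, -, -, e⟩ := res_pairing_commutator T hp hmem hR (fun a ha => hbig a ha.1) hi fun h => hiJ h.1
  have : res J s.1 (hJ s.1 s.2) = res R p (hR p hpT) := Equiv.ext fun a => by
    by_cases ha : a ∈ J
    · rw [res_mem_apply _ ha]
      by_cases hsa : s.1 a = a
      · rw [hsa, res_not_mem_apply _ fun h => h.2 hsa]
      · rw [res_mem_apply _ (show a ∈ R from ⟨ha, hsa⟩)]
        exact ((hcen a ha s.1 hs).resolve_left fun h => hsa (h 1 (one_mem _))) 1 (one_mem _)
    · rw [res_not_mem_apply _ ha, res_not_mem_apply _ fun h => ha h.1]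
  show Perm.sign (res J s.1 (hJ s.1 s.2)) = 1
  rw [this, e, sign_commutator]

include hp hmem hD in
/-- Without a small pair and with several orbits no decomposition exists. -/
theorem no_dec_of_big (hbig : ∀ a, p a ≠ a → Big T (p := p) a) (h₁ : S₁ ≠ ⊥) (h₂ : S₂ ≠ ⊥)
    (hout : ∀ a, Big T (p := p) a → ∃ c, p c ≠ c ∧ c ∉ orb T a) : False := by
  classical
  set J : Set α := {a | Big T (p := p) a ∧ ¬ Cen (T : Subgroup (Perm α)) p S₂ a}
  set I : Set α := {a | Big T (p := p) a ∧ Cen (T : Subgroup (Perm α)) p S₂ a}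
  have inv_ : ∀ {a}, ∀ w ∈ (T : Subgroup (Perm α)),
      (Cen (T : Subgroup (Perm α)) p S₂ (w a) ↔ Cen (T : Subgroup (Perm α)) p S₂ a) := fun {a} w hw =>
    ⟨fun h => by simpa using Cen.image h (inv_mem hw), fun h => h.image hw⟩
  have hJ : Stable (T : Subgroup (Perm α)) J := fun w hw a =>
    and_congr (big_image T hp hmem hw a) (not_congr (inv_ w hw))
  have hI : Stable (T : Subgroup (Perm α)) I := fun w hw a => and_congr (big_image T hp hmem hw a) (inv_ w hw)
  have hcen₁ : ∀ a ∈ J, Cen (T : Subgroup (Perm α)) p S₁ a := fun a ha => by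
    obtain ⟨c, hc, hcO⟩ := hout a ha.1
    exact (cen_or T hp hmem hD ha.1 hc hcO).resolve_right ha.2
  obtain ⟨j, hj⟩ : ∃ j, j ∈ J := by
    by_contra e
    push Not at e
    exact h₂ (eq_bot_of_cen T hp hmem hD (fun a ha => by
      by_contra h
      exact e a ⟨ha, h⟩) hout)
  obtain ⟨i, hi⟩ : ∃ i, i ∈ I := by
    by_contra e
    push Not at e
    exact h₁ (eq_bot_of_cen T hp hmem hD.symm (fun a ha => hcen₁ a ⟨ha, fun h => e a ⟨ha, h⟩⟩) hout)
  have hij : i ∉ J := fun h => h.2 hi.2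
  have hji : j ∉ I := fun h => hj.2 h.2
  have split : ∀ x : (T : Subgroup (Perm α)), signOn T hJ x * signOn T hI x = Perm.sign x.1 := fun x => by
    show Perm.sign (res J x.1 _) * Perm.sign (res I x.1 _) = _
    rw [← map_mul]
    refine congrArg _ (Equiv.ext fun a => ?_)
    rw [Perm.mul_apply]
    by_cases ha : a ∈ I
    · rw [res_mem_apply _ ha, res_not_mem_apply _ fun h => h.2 ((hI x.1 x.2 a).mpr ha).2]
    · rw [res_not_mem_apply _ ha]
      by_cases haJ : a ∈ J
      · rw [res_mem_apply _ haJ]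
      · rw [res_not_mem_apply _ haJ]
        by_cases hb : Big T (p := p) a
        · exact absurd ⟨hb, fun h => ha ⟨hb, h⟩⟩ haJ
        · rcases not_big T hp hmem hb x.2 with e | ⟨-, e, -⟩
          · exact e.symm
          · exact absurd (hbig a e) hb
  have hall : ∀ x : (T : Subgroup (Perm α)), Perm.sign x.1 = 1 → signOn T hJ x = 1 := by
    intro x hx
    obtain ⟨s, hs, s', hs', e⟩ := hD.gen x.1 x.2 hx
    rw [show x = ⟨s, hD.le₁ hs⟩ * ⟨s', hD.le₂ hs'⟩ from Subtype.ext e, map_mul,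
      signOn_eq_one T hp hmem hJ (fun a ha => ha.1) hi.1.1 hij hcen₁ (s := ⟨s, hD.le₁ hs⟩) hs, one_mul]
    have h := split ⟨s', hD.le₂ hs'⟩
    rwa [signOn_eq_one T hp hmem hI (fun a ha => ha.1) hj.1.1 hji (fun a ha => ha.2) (s := ⟨s', hD.le₂ hs'⟩) hs',
      mul_one, hD.ev₂ s' hs'] at h
  have := hall (⟨_, hmem i⟩ * ⟨_, hmem j⟩) (sign_swap_mul_swap (Ne.symm hi.1.1) (Ne.symm hj.1.1))
  rw [map_mul] at this
  have e1 : res J (swap i (p i)) (hJ _ (hmem i)) = 1 := Equiv.ext fun a => by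
    by_cases ha : a ∈ J
    · rw [res_mem_apply _ ha, swap_apply_of_ne_of_ne]
      · rfl
      · exact fun e => hij (e ▸ ha)
      · exact fun e => hij ((hJ p (pairing_mem T hp hmem) i).mp (e ▸ ha))
    · rw [res_not_mem_apply _ ha]; rfl
  have e2 : res J (swap j (p j)) (hJ _ (hmem j)) = swap j (p j) := Equiv.ext fun a => by
    by_cases ha : a ∈ J
    · rw [res_mem_apply _ ha]
    · rw [res_not_mem_apply _ ha, swap_apply_of_ne_of_ne]
      · exact fun e => ha (e ▸ hj)
      · exact fun e => ha (e ▸ (hJ p (pairing_mem T hp hmem) j).mpr hj)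
  change Perm.sign (res J (swap i (p i)) _) * Perm.sign (res J (swap j (p j)) _) = 1 at this
  rw [e1, e2, map_one, Perm.sign_swap (Ne.symm hj.1.1)] at this
  exact absurd this (by decide)

include hp hmem hD in
/-- A single orbit without small pair gives no decomposition. -/
theorem no_dec_of_transitive (h6 : 6 ≤ Fintype.card α)
    (htr : ∀ a b, p a ≠ a → p b ≠ b → ∃ w ∈ (T : Subgroup (Perm α)), w a = b)
    (h₁ : S₁ ≠ ⊥) (h₂ : S₂ ≠ ⊥) : False := by
  haveI : Fact (Nat.Prime 2) := ⟨Nat.prime_two⟩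
  have hcentral : ∀ x ∈ (T : Subgroup (Perm α)), Perm.sign x = 1 →
      (∀ y ∈ (T : Subgroup (Perm α)), Perm.sign y = 1 → x * y = y * x) → x = 1 ∨ x = p := by
    intro x hx hsx hc
    have hfix : ∀ i, p i = i → x i = i := fun i hi => hp.fixed _ _ (by rw [comm_apply hp hmem hx, hi]) hi
    have hpair : ∀ i, x i = i ∨ x i = p i := by
      intro i
      by_cases hi : p i = i
      · exact Or.inl (hfix i hi)
      obtain ⟨j, l, hj, hl, hji, hjpi, hli, hlpi, hlj, hlpj⟩ := exists_distinct_moved hp h6 i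
      have key : ∀ j, p j ≠ j → j ≠ i → j ≠ p i → x i = i ∨ x i = p i ∨ x i = j ∨ x i = p j := by
        intro j hj hji hjpi
        have hcj := hc _ (mul_mem (hmem i) (hmem j)) (sign_swap_mul_swap (Ne.symm hi) (Ne.symm hj))
        have h := congrArg (fun e : Perm α => e i) hcj
        simp only [Perm.mul_apply] at h
        rw [swap_apply_of_ne_of_ne hji.symm (fun e => hjpi (by rw [e, hp.invol])), swap_apply_left] at h
        by_contra hne
        push Not at hne
        rw [swap_apply_of_ne_of_ne hne.2.2.1 hne.2.2.2, swap_apply_of_ne_of_ne hne.1 hne.2.1] at h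
        exact hi (x.injective h)
      rcases key j hj hji hjpi with e | e | e | e
      · exact Or.inl e
      · exact Or.inr e
      all_goals
        rcases key l hl hli hlpi with e' | e' | e' | e'
        · exact Or.inl e'
        · exact Or.inr e'
        all_goals rw [e] at e'
      · exact absurd e'.symm hlj
      · exact absurd (show l = p j by rw [e', hp.invol]) hlpj
      · exact absurd e'.symm hlpj
      · exact absurd (p.injective e').symm hlj
    by_cases h : ∃ a, p a ≠ a ∧ x a = a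
    · left
      obtain ⟨a, ha, hxa⟩ := h
      refine Equiv.ext fun b => ?_
      by_cases hb : p b = b
      · exact hfix b hb
      obtain ⟨w, hw, rfl⟩ := htr a b ha hb
      rw [Perm.one_apply]
      rcases eq_one_or_neg (x := w) with hs | hs
      · have := congrArg (fun e : Perm α => e a) (hc w hw hs)
        simp only [Perm.mul_apply, hxa] at this
        exact this
      · have hs' : Perm.sign (w * swap a (p a)) = 1 := by rw [map_mul, hs, Perm.sign_swap (Ne.symm ha)]; rfl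
        have := congrArg (fun e : Perm α => e a) (hc _ (mul_mem hw (hmem a)) hs')
        simp only [Perm.mul_apply, hxa, swap_apply_left] at this
        have e := congrArg p this
        rwa [comm_apply hp hmem hx, comm_apply hp hmem hw, hp.invol] at e
    · right
      push Not at h
      refine Equiv.ext fun b => ?_
      by_cases hb : p b = b
      · rw [hfix b hb, hb]
      · exact (hpair b).resolve_left (h b hb)
  have hp_mem : ∀ {S S' : Subgroup (Perm α)}, Dec (T : Subgroup (Perm α)) S S' → S ≠ ⊥ → p ∈ S := by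
    intro S S' hd hne
    haveI : Nontrivial S := (Subgroup.nontrivial_iff_ne_bot S).mpr hne
    have hpS : IsPGroup 2 S := fun g => by
      obtain ⟨k, hk⟩ := T.2 ⟨g.1, hd.le₁ g.2⟩
      exact ⟨k, Subtype.ext (by simpa using congrArg Subtype.val hk)⟩
    haveI := hpS.center_nontrivial
    obtain ⟨z, hz⟩ := exists_ne (1 : Subgroup.center S)
    rcases hcentral z.1.1 (hd.le₁ z.1.2) (hd.ev₁ _ z.1.2) (fun y hy hys => by
      obtain ⟨a, ha, b, hb, rfl⟩ := hd.gen y hy hys
      have h1 : z.1.1 * a = a * z.1.1 := congrArg Subtype.val (Subgroup.mem_center_iff.mp z.2 ⟨a, ha⟩).symm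
      rw [← mul_assoc, h1, mul_assoc, hd.comm _ z.1.2 b hb, mul_assoc]) with e | e
    · exact absurd (Subtype.ext (Subtype.ext e)) hz
    · exact e ▸ z.1.2
  have hp1 := hD.disj p (hp_mem hD h₁) (hp_mem hD.symm h₂)
  obtain ⟨a⟩ : Nonempty α := Fintype.card_pos_iff.mp (by omega)
  obtain ⟨c, -, hc, -⟩ := exists_distinct_moved hp h6 a
  exact hc (by rw [hp1]; rfl)

end CfsgLib.AltSylowDecomp
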