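/-
The decomposability criterion for the even part of a Sylow 2-subgroup.
-/
import Cfsg.Agent.Lib.AltSylowDecomp.Main

set_option autoImplicit false
set_option linter.unusedSectionVars false

universe u

namespace CfsgLib.AltSylowDecomp

open Equiv CfsgLib.SymSylow

variable {α : Type u} [Fintype α] [DecidableEq α] (T : Sylow 2 (Perm α))

theorem small_iff_mod :
    (∀ p : Perm α, IsPairing p → (∀ a, swap a (p a) ∈ (T : Subgroup (Perm α))) →
      ((∃ a, p a ≠ a ∧ Small (T : Subgroup (Perm α)) p a) ↔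
        (Fintype.card α % 4 = 2 ∨ Fintype.card α % 4 = 3))) := fun p hp hmem => by
  rw [small_exists_iff T hp hmem, card_pairs_eq hp, Nat.odd_iff]
  omega

/-- A decomposition forces the numerical condition. -/
theorem cond_of_dec {S₁ S₂ : Subgroup (Perm α)} (hD : Dec (T : Subgroup (Perm α)) S₁ S₂) (h₁ : S₁ ≠ ⊥)
    (h₂ : S₂ ≠ ⊥) (h6 : 6 ≤ Fintype.card α) :
    (Fintype.card α % 4 = 2 ∨ Fintype.card α % 4 = 3) ∧ ∀ r, 4 * (Fintype.card α / 4) ≠ 2 ^ r := by
  obtain ⟨p, hp, hmem⟩ := exists_pairing_mem T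
  by_cases hs : ∃ a, p a ≠ a ∧ Small (T : Subgroup (Perm α)) p a
  · refine ⟨(small_iff_mod T p hp hmem).mp hs, fun r hr => ?_⟩
    obtain ⟨c, hc, hsc⟩ := hs
    have hout : ∀ a, Big T (p := p) a → ∃ d, p d ≠ d ∧ d ∉ orb T a := fun a ha =>
      ⟨c, hc, fun h => (orb_big T hp hmem ha h).2 hsc⟩
    obtain ⟨a, ha⟩ : ∃ a, Big T (p := p) a := by
      obtain ⟨d, e, hd, -, hdc, hdc', -⟩ := exists_distinct_moved hp h6 c
      exact ⟨d, hd, fun h => by
        rcases small_unique T hp hmem hc hd hsc h with e | e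
        exacts [hdc e, hdc' e]⟩
    have htr : ∀ b, Big T (p := p) b → ∃ w ∈ (T : Subgroup (Perm α)), w a = b := fun b hb =>
      big_transitive T hp hmem hr ha.1 hb.1 ha.2 hb.2
    obtain ⟨d, hd, hdO⟩ := hout a ha
    rcases cen_or T hp hmem hD ha hd hdO with h | h
    · exact h₁ (eq_bot_of_cen T hp hmem hD.symm (fun b hb => by
        obtain ⟨w, hw, rfl⟩ := htr b hb
        exact h.image hw) hout)
    · exact h₂ (eq_bot_of_cen T hp hmem hD (fun b hb => by
        obtain ⟨w, hw, rfl⟩ := htr b hb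
        exact h.image hw) hout)
  · exfalso
    push Not at hs
    have hbig : ∀ a, p a ≠ a → Big T (p := p) a := fun a ha => ⟨ha, hs a ha⟩
    by_cases htr : ∀ a b, p a ≠ a → p b ≠ b → ∃ w ∈ (T : Subgroup (Perm α)), w a = b
    · exact no_dec_of_transitive T hp hmem hD h6 htr h₁ h₂
    · push Not at htr
      obtain ⟨a, b, ha, hb, hab⟩ := htr
      refine no_dec_of_big T hp hmem hD hbig h₁ h₂ fun c hc => ?_
      by_cases hac : a ∈ orb T c
      · refine ⟨b, hb, fun hbc => ?_⟩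
        obtain ⟨v, hv, e⟩ := hac
        obtain ⟨w, hw, e'⟩ := hbc
        exact hab (w * v⁻¹) (mul_mem hw (inv_mem hv)) (by rw [← e, ← e']; simp)
      · exact ⟨a, ha, hac⟩

/-- The numerical condition gives a decomposition. -/
theorem dec_of_cond (h2 : Fintype.card α % 4 = 2 ∨ Fintype.card α % 4 = 3)
    (hpow : ∀ r, 4 * (Fintype.card α / 4) ≠ 2 ^ r) (h6 : 6 ≤ Fintype.card α) :
    ∃ S₁ S₂ : Subgroup (Perm α), Dec (T : Subgroup (Perm α)) S₁ S₂ ∧ S₁ ≠ ⊥ ∧ S₂ ≠ ⊥ := by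
  classical
  obtain ⟨p, hp, hmem⟩ := exists_pairing_mem T
  obtain ⟨c, hc, hsc⟩ := (small_iff_mod T p hp hmem).mpr h2
  obtain ⟨a, ha⟩ : ∃ a, Big T (p := p) a := by
    obtain ⟨d, e, hd, -, hdc, hdc', -⟩ := exists_distinct_moved hp h6 c
    exact ⟨d, hd, fun h => by
      rcases small_unique T hp hmem hc hd hsc h with e | e
      exacts [hdc e, hdc' e]⟩
  obtain ⟨b, hb, hbO⟩ : ∃ b, Big T (p := p) b ∧ b ∉ orb T a := by
    by_contra h
    push Not at h
    obtain ⟨r, hr⟩ := big_card_of_transitive T hp hmem ha.1 ha.2 fun b hb hsb => h b ⟨hb, hsb⟩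
    exact hpow r hr
  have hO := orb_stable T a
  have hpT := pairing_mem T hp hmem
  have hpO : ∀ d, p d ∈ orb T a ↔ d ∈ orb T a := hO p hpT
  have hsmall : ∀ d ∈ orb T a, Big T (p := p) d := fun d hd => orb_big T hp hmem ha hd
  let E₁ : Subgroup (Perm α) :=
    { carrier := {x | x ∈ (T : Subgroup (Perm α)) ∧ Perm.sign x = 1 ∧
        ∀ d, Big T (p := p) d → d ∉ orb T a → x d = d}
      one_mem' := ⟨one_mem _, map_one _, fun _ _ _ => rfl⟩
      mul_mem' := fun {x y} hx hy => ⟨mul_mem hx.1 hy.1, by rw [map_mul, hx.2.1, hy.2.1, mul_one],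
        fun d h1 h2 => by rw [Perm.mul_apply, hy.2.2 d h1 h2, hx.2.2 d h1 h2]⟩
      inv_mem' := fun {x} hx => ⟨inv_mem hx.1, by rw [map_inv, hx.2.1, inv_one],
        fun d h1 h2 => Perm.inv_eq_iff_eq.mpr (hx.2.2 d h1 h2).symm⟩ }
  let E₂ : Subgroup (Perm α) :=
    { carrier := {x | x ∈ (T : Subgroup (Perm α)) ∧ Perm.sign x = 1 ∧ ∀ d, d ∈ orb T a → x d = d}
      one_mem' := ⟨one_mem _, map_one _, fun _ _ => rfl⟩
      mul_mem' := fun {x y} hx hy => ⟨mul_mem hx.1 hy.1, by rw [map_mul, hx.2.1, hy.2.1, mul_one],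
        fun d h1 => by rw [Perm.mul_apply, hy.2.2 d h1, hx.2.2 d h1]⟩
      inv_mem' := fun {x} hx => ⟨inv_mem hx.1, by rw [map_inv, hx.2.1, inv_one],
        fun d h1 => Perm.inv_eq_iff_eq.mpr (hx.2.2 d h1).symm⟩ }
  have hcO : c ∉ orb T a := fun h => (hsmall c h).2 hsc
  have hpcO : p c ∉ orb T a := fun h => hcO ((hpO c).mp h)
  have hfixc : ∀ d, Big T (p := p) d → swap c (p c) d = d := fun d hd =>
    swap_apply_of_ne_of_ne (fun e => hd.2 (e ▸ hsc)) fun e => ((p_big T hp hmem).mp (e ▸ hd)).2 hsc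
  refine ⟨E₁, E₂, ⟨fun x hx => hx.1, fun x hx => hx.1, fun x hx => hx.2.1, fun x hx => hx.2.1, ?_, ?_, ?_⟩, ?_, ?_⟩
  · intro x hx y hy
    ext d
    simp only [Perm.mul_apply]
    by_cases hd : Big T (p := p) d
    · by_cases hdO : d ∈ orb T a
      · rw [hy.2.2 d hdO, hy.2.2 _ ((hO x hx.1 d).mpr hdO)]
      · rw [hx.2.2 d hd hdO, hx.2.2 _ ((big_image T hp hmem hy.1 d).mpr hd) fun h => hdO ((hO y hy.1 d).mp h)]
    · rcases not_big T hp hmem hd hx.1 with e | ⟨e, -⟩ <;> rcases not_big T hp hmem hd hy.1 with e' | ⟨e', -⟩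
      · rw [e', e, e']
      · rw [e', e, e', ← comm_apply hp hmem hx.1, e]
      · rw [e', e, ← comm_apply hp hmem hy.1, e']
      · rw [e', e, ← comm_apply hp hmem hx.1, e, ← comm_apply hp hmem hy.1, e']
  · intro x hx hy
    refine small_part T hp hmem hx.1 (fun d hd => ?_) hx.2.1
    by_cases hdO : d ∈ orb T a
    · exact hy.2.2 d hdO
    · exact hx.2.2 d hd hdO
  · intro x hx hsx
    obtain ⟨t, ht, htT, hts⟩ : ∃ t : Perm α, (∀ d, Big T (p := p) d → t d = d) ∧ t ∈ (T : Subgroup (Perm α)) ∧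
        Perm.sign (res (orb T a) x (hO x hx) * t) = 1 := by
      rcases eq_one_or_neg (x := res (orb T a) x (hO x hx)) with h | h
      · exact ⟨1, fun _ _ => rfl, one_mem _, by rw [mul_one, h]⟩
      · refine ⟨_, fun d hd => ?_, hmem c, by rw [map_mul, h, Perm.sign_swap (Ne.symm hc)]; rfl⟩
        refine swap_apply_of_ne_of_ne (fun e => hd.2 (e ▸ hsc)) (fun e => ?_)
        exact ((p_big T hp hmem).mp (e ▸ hd)).2 hsc
    set y := res (orb T a) x (hO x hx) * t with hy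
    have hyT : y ∈ (T : Subgroup (Perm α)) := mul_mem (res_mem T hp hmem hO hx) htT
    refine ⟨y, ⟨hyT, hts, fun d hd hdO => by rw [hy, Perm.mul_apply, ht d hd, res_not_mem_apply _ hdO]⟩,
      y⁻¹ * x, ⟨mul_mem (inv_mem hyT) hx, by rw [map_mul, map_inv, hts, hsx, inv_one, one_mul],
        fun d hdO => ?_⟩, by rw [mul_inv_cancel_left]⟩
    rw [Perm.mul_apply, Perm.inv_eq_iff_eq, hy, Perm.mul_apply, ht d (hsmall d hdO), res_mem_apply _ hdO]
  · rw [Ne, Subgroup.eq_bot_iff_forall]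
    intro h
    have hm : swap a (p a) * swap c (p c) ∈ E₁ := ⟨mul_mem (hmem a) (hmem c),
      sign_swap_mul_swap (Ne.symm ha.1) (Ne.symm hc), fun d hd hdO => by
        rw [Perm.mul_apply, hfixc d hd, swap_apply_of_ne_of_ne]
        · exact fun e => hdO (e ▸ self_mem_orb T a)
        · exact fun e => hdO (e ▸ (hpO a).mpr (self_mem_orb T a))⟩
    have := congrArg (fun e : Perm α => e a) (h _ hm)
    simp only [Perm.mul_apply, Perm.one_apply] at this
    rw [hfixc a ha, swap_apply_left] at this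
    exact ha.1 this
  · rw [Ne, Subgroup.eq_bot_iff_forall]
    intro h
    have hbO' : p b ∉ orb T a := fun h => hbO ((hpO b).mp h)
    have hm : swap b (p b) * swap c (p c) ∈ E₂ := ⟨mul_mem (hmem b) (hmem c),
      sign_swap_mul_swap (Ne.symm hb.1) (Ne.symm hc), fun d hdO => by
        rw [Perm.mul_apply, hfixc d (hsmall d hdO), swap_apply_of_ne_of_ne]
        · exact fun e => hbO (e ▸ hdO)
        · exact fun e => hbO' (e ▸ hdO)⟩
    have := congrArg (fun e : Perm α => e b) (h _ hm)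
    simp only [Perm.mul_apply, Perm.one_apply] at this
    rw [hfixc b hb, swap_apply_left] at this
    exact hb.1 this

/-- A 2-group of order four and exponent two is a direct product. -/
theorem dec_four {G : Type*} [Group G] [Finite G] (P : Subgroup G) (h4 : Nat.card P = 4)
    (h2 : ∀ x : G, x ^ 4 = 1 → x ^ 2 = 1) :
    ∃ S₁ S₂ : Subgroup G, S₁ ≠ ⊥ ∧ S₂ ≠ ⊥ ∧ S₁ ≤ P ∧ S₂ ≤ P ∧ (∀ a ∈ S₁, ∀ b ∈ S₂, a * b = b * a) ∧
      S₁ ⊓ S₂ = ⊥ ∧ S₁ ⊔ S₂ = P := by
  haveI : Fact (Nat.Prime 2) := ⟨Nat.prime_two⟩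
  have hsq : ∀ x ∈ P, x ^ 2 = 1 := fun x hx => h2 x (by
    have := pow_card_eq_one' (G := P) (x := ⟨x, hx⟩)
    rw [h4] at this
    exact congrArg Subtype.val this)
  have hcomm : ∀ x ∈ P, ∀ y ∈ P, x * y = y * x := fun x hx y hy => by
    have h1 := hsq x hx
    have h3 := hsq y hy
    have h5 := hsq _ (mul_mem hx hy)
    rw [pow_two] at h1 h3 h5
    calc x * y = x * y * (x * y * (x * y))⁻¹ := by rw [h5, inv_one, mul_one]
      _ = y⁻¹ * x⁻¹ := by group
      _ = y * x := by rw [inv_eq_of_mul_eq_one_right h3, inv_eq_of_mul_eq_one_right h1]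
  obtain ⟨v, hv, hv1⟩ : ∃ v ∈ P, v ≠ 1 := by
    by_contra h
    push Not at h
    rw [(Subgroup.eq_bot_iff_forall P).mpr h, Subgroup.card_bot] at h4
    omega
  have cz : ∀ {x}, x ∈ P → x ≠ 1 → Nat.card (Subgroup.zpowers x) = 2 := fun {x} hx h1 => by
    rw [Nat.card_zpowers, orderOf_eq_prime_iff.mpr ⟨hsq x hx, h1⟩]
  obtain ⟨w, hw, hwv⟩ : ∃ w ∈ P, w ∉ Subgroup.zpowers v := by
    by_contra h
    push Not at h
    have := Subgroup.card_le_of_le (H := P) (K := Subgroup.zpowers v) h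
    rw [h4, cz hv hv1] at this
    omega
  have hw1 : w ≠ 1 := fun e => hwv (e ▸ one_mem _)
  refine ⟨Subgroup.zpowers v, Subgroup.zpowers w, fun e => hv1 (Subgroup.zpowers_eq_bot.mp e),
    fun e => hw1 (Subgroup.zpowers_eq_bot.mp e), (Subgroup.zpowers_le).mpr hv, (Subgroup.zpowers_le).mpr hw,
    fun a ha b hb => hcomm a ((Subgroup.zpowers_le).mpr hv ha) b ((Subgroup.zpowers_le).mpr hw hb), ?_, ?_⟩
  · refine eq_bot_iff.mpr fun x hx => ?_
    by_contra hne
    have hx1 : x ≠ 1 := fun e => hne (e ▸ Subgroup.mem_bot.mpr rfl)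
    have hxP : x ∈ P := (Subgroup.zpowers_le).mpr hv hx.1
    have e1 : Subgroup.zpowers x = Subgroup.zpowers v :=
      Subgroup.eq_of_le_of_card_ge ((Subgroup.zpowers_le).mpr hx.1) (by rw [cz hv hv1, cz hxP hx1])
    have e2 : Subgroup.zpowers x = Subgroup.zpowers w :=
      Subgroup.eq_of_le_of_card_ge ((Subgroup.zpowers_le).mpr hx.2) (by rw [cz hw hw1, cz hxP hx1])
    exact hwv (e1 ▸ e2.symm ▸ Subgroup.mem_zpowers w)
  · have hle : Subgroup.zpowers v ⊔ Subgroup.zpowers w ≤ P :=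
      sup_le ((Subgroup.zpowers_le).mpr hv) ((Subgroup.zpowers_le).mpr hw)
    refine Subgroup.eq_of_le_of_card_ge hle ?_
    obtain ⟨j, hj⟩ := Subgroup.card_dvd_of_le (show Subgroup.zpowers v ≤ Subgroup.zpowers v ⊔ Subgroup.zpowers w from le_sup_left)
    rw [cz hv hv1] at hj
    rcases Nat.lt_or_ge j 2 with hlt | hge
    · exfalso
      have hpos : 0 < Nat.card (Subgroup.zpowers v ⊔ Subgroup.zpowers w : Subgroup G) := Nat.card_pos
      refine hwv ((Subgroup.eq_of_le_of_card_ge (le_sup_left : Subgroup.zpowers v ≤ _) ?_).symm ▸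
        (le_sup_right : Subgroup.zpowers w ≤ Subgroup.zpowers v ⊔ Subgroup.zpowers w) (Subgroup.mem_zpowers w))
      rw [cz hv hv1]
      omega
    · omega

end CfsgLib.AltSylowDecomp
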